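import Cfsg.Agent.H51.IsolatedSylow.Transfer
import Cfsg.Agent.S1241
import Cfsg.Agent.H89.HallWielandt
import Cfsg.Agent.H93.Group
import Cfsg.Agent.H95.MetacyclicNormal
import Cfsg.Agent.H22.Frobenius

/-!
The Sylow `p`-subgroup, `p` odd, of rank two of a group in whose derived subgroup it lies and
which has a central element of order `p`.
-/

set_option autoImplicit false
set_option linter.style.haveILetI false

namespace Cfsg.Agent.H51.IsolatedSylow

open Subgroup
open scoped commutatorElement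

variable {H : Type*} [Group H] [Finite H] {p : ℕ} [hp : Fact p.Prime]

/-- Control of fusion by the normalizer makes a central element moved. -/
theorem moved_of_control (P : Sylow p H) {x : H} (hxP : x ∈ (P : Subgroup H))
    (hxH : x ∈ center H) (M : Subgroup H) (hPM : (P : Subgroup H) ≤ M)
    (hPD : (P : Subgroup H) ≤ ⁅M, M⁆)
    (hctrl : ∀ a ∈ M, ∀ y ∈ (P : Subgroup H), a * y * a⁻¹ ∈ (P : Subgroup H) →
      ∃ g ∈ normalizer ((P : Subgroup H) : Set H), g * y * g⁻¹ = a * y * a⁻¹) :
    Moved (⟨x, hxP⟩ : (P : Subgroup H)) := by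
  intro D u hD hα
  by_contra hu
  set P' := (P : Subgroup H).subgroupOf M with hP'
  haveI hDn : D.Normal := ⟨fun d hd g => by
    have h := mul_mem (hD (commutator_mem_commutator (mem_top g) (mem_top d))) hd
    rwa [commutatorElement_def, inv_mul_cancel_right] at h⟩
  set K := (D.map (P : Subgroup H).subtype).subgroupOf M with hK
  have hKP : K ≤ P' := subgroupOf_mono M (map_subtype_le D)
  have hmemK : ∀ (y : H) (hy : y ∈ (P : Subgroup H)) (hyM : y ∈ M),
      (⟨y, hyM⟩ : M) ∈ K ↔ (⟨y, hy⟩ : (P : Subgroup H)) ∈ D := fun y hy hyM => by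
    rw [hK, mem_subgroupOf]
    exact ⟨fun ⟨d, hd, hdy⟩ => by
      have : d = ⟨y, hy⟩ := Subtype.ext hdy
      exact this ▸ hd, fun h => ⟨⟨y, hy⟩, h, rfl⟩⟩
  refine S1241.result (p := p) P' K hKP ⟨fun k hk g => ?_⟩ (fun a ha b hb => ?_) ?_
    ⟨u, hPM u.2⟩ u.2 (fun h => hu ((hmemK u u.2 _).1 h)) ?_ (fun m a ha => ?_) ?_
  · rw [mem_subgroupOf] at hk ⊢
    obtain ⟨d, hd, hde⟩ := hk
    refine ⟨⟨g.1.1, g.2⟩ * d * ⟨g.1.1, g.2⟩⁻¹, hDn.conj_mem d hd _, ?_⟩
    simp only [map_mul, map_inv, Subgroup.subtype_apply, coe_mul, InvMemClass.coe_inv] at hde ⊢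
    rw [hde]
  · rw [mem_subgroupOf] at ha hb
    exact ⟨⟨a.1, ha⟩ * ⟨b.1, hb⟩ * ⟨a.1, ha⟩⁻¹ * ⟨b.1, hb⟩⁻¹,
      hD (commutatorElement_def (⟨a.1, ha⟩ : (P : Subgroup H)) ⟨b.1, hb⟩ ▸
        commutator_mem_commutator (mem_top _) (mem_top _)), rfl⟩
  · refine Nat.Coprime.symm ?_
    refine Nat.Coprime.coprime_dvd_left (relIndex_dvd_index_of_le hPM) ?_
    exact ((Nat.Prime.coprime_iff_not_dvd hp.out).2 P.not_dvd_index).symm
  · obtain ⟨k, hk⟩ := IsPGroup.iff_orderOf.1 P.isPGroup' u
    exact ⟨k, by rw [Subgroup.orderOf_mk, Subgroup.orderOf_coe, hk]⟩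
  · rw [mem_subgroupOf] at ha
    have ha' : (a : H) * ((u ^ m : (P : Subgroup H)) : H) * (a : H)⁻¹ ∈ (P : Subgroup H) := by
      simpa using ha
    obtain ⟨g, hg, hge⟩ := hctrl a a.2 _ (u ^ m).2 ha'
    set α := normalizerMonoidHom (P : Subgroup H) ⟨g, hg⟩ with hαdef
    have hv : ∀ y : (P : Subgroup H), (α y : H) = g * y * g⁻¹ := fun y => rfl
    have h1 := hα α (Subtype.ext (by
      rw [hv]
      show g * x * g⁻¹ = x
      rw [mem_center_iff.1 hxH g, mul_inv_cancel_right]))
    have h2 : α (u ^ m) * (u ^ m)⁻¹ ∈ D := by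
      rw [← QuotientGroup.eq_one_iff, QuotientGroup.mk_mul, QuotientGroup.mk_inv, mul_inv_eq_one]
        at h1
      rw [← QuotientGroup.eq_one_iff, QuotientGroup.mk_mul, QuotientGroup.mk_inv, mul_inv_eq_one,
        map_zpow, QuotientGroup.mk_zpow, QuotientGroup.mk_zpow, h1]
    rw [mem_subgroupOf]
    refine ⟨_, h2, ?_⟩
    simp only [map_mul, map_inv, Subgroup.subtype_apply]
    rw [hv, hge]
    simp
  · have h1 : ((u : H)) ∈ ⁅M, M⁆ := hPD u.2
    rw [← range_subtype M, MonoidHom.range_eq_map, ← map_commutator] at h1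
    obtain ⟨c, hc, hcu⟩ := h1
    exact (show c = ⟨u, hPM u.2⟩ from Subtype.ext hcu) ▸ hc

/-- If `P` has class at most two modulo `x`, it lies in the derived subgroup of its normalizer. -/
theorem le_normalizer_commutator (hp2 : p ≠ 2) (P : Sylow p H) {x : H}
    (hxP : x ∈ (P : Subgroup H)) (hxH : x ∈ center H) (hP : (P : Subgroup H) ≤ commutator H)
    (hxD : x ∈ ⁅(P : Subgroup H), (P : Subgroup H)⁆)
    (hcl : ∀ s t g : (P : Subgroup H),
      ⁅⁅s, t⁆, g⁆ ∈ zpowers (⟨x, hxP⟩ : (P : Subgroup H))) :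
    (P : Subgroup H) ≤ ⁅normalizer ((P : Subgroup H) : Set H),
      normalizer ((P : Subgroup H) : Set H)⁆ := by
  set X := zpowers x with hX
  haveI : X.Normal := H24.normal_of_le_center (zpowers_le.2 hxH)
  set π := QuotientGroup.mk' X with hπ
  have hπs : Function.Surjective π := QuotientGroup.mk'_surjective X
  set Pb : Sylow p (H ⧸ X) := P.mapSurjective hπs with hPb
  have hPbe : (Pb : Subgroup (H ⧸ X)) = (P : Subgroup H).map π := rfl
  -- class
  have hcl2 : (Pb : Subgroup (H ⧸ X)).lowerCentralSeries (p - 1) = ⊥ := by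
    have h2 : 2 ≤ p - 1 := by have := hp.out.two_le; omega
    rw [eq_bot_iff]
    refine (Subgroup.lowerCentralSeries_antitone _ h2).trans ?_
    rw [Subgroup.lowerCentralSeries_succ, Subgroup.lowerCentralSeries_succ,
      Subgroup.lowerCentralSeries_zero, hPbe, ← map_commutator, ← map_commutator, le_bot_iff,
      Subgroup.map_eq_bot_iff, hπ, QuotientGroup.ker_mk', commutator_le]
    intro c hc g hg
    haveI : (zpowers (⟨x, hxP⟩ : (P : Subgroup H))).Normal :=
      H24.normal_of_le_center (zpowers_le.2 (mem_center_iff.2 fun z =>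
        Subtype.ext (mem_center_iff.1 hxH z)))
    have hcomm : commutator (P : Subgroup H) ≤
        (center ((P : Subgroup H) ⧸ zpowers (⟨x, hxP⟩ : (P : Subgroup H)))).comap
          (QuotientGroup.mk' _) := by
      rw [_root_.commutator_def, Subgroup.commutator_le]
      intro s _ t _
      rw [mem_comap, mem_center_iff]
      intro z
      obtain ⟨z, rfl⟩ := QuotientGroup.mk'_surjective _ z
      refine (commutatorElement_eq_one_iff_mul_comm.1 ?_).symm
      rw [← map_commutatorElement, QuotientGroup.mk'_apply, QuotientGroup.eq_one_iff]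
      exact hcl s t z
    rw [← range_subtype (P : Subgroup H), MonoidHom.range_eq_map, ← map_commutator] at hc
    obtain ⟨c', hc', rfl⟩ := hc
    have h3 := mem_comap.1 (hcomm hc')
    rw [mem_center_iff] at h3
    have h4 := (h3 (QuotientGroup.mk' _ ⟨g, hg⟩)).symm
    rw [← commutatorElement_eq_one_iff_mul_comm, ← map_commutatorElement, QuotientGroup.mk'_apply,
      QuotientGroup.eq_one_iff] at h4
    obtain ⟨i, hi⟩ := mem_zpowers_iff.1 h4
    refine mem_zpowers_iff.2 ⟨i, ?_⟩
    have := congrArg Subtype.val hi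
    simpa [commutatorElement_def] using this
  -- the quotient has no `p`-quotient
  have hres : pResidual p (H ⧸ X) = ⊤ := by
    by_contra hne
    set R := pResidual p (H ⧸ X) with hR
    haveI : Nontrivial ((H ⧸ X) ⧸ R) := (QuotientGroup.nontrivial_iff).2 hne
    have hq : IsPGroup p ((H ⧸ X) ⧸ R) := H22.isPGroup_quotient_pResidual
    haveI := hq.isNilpotent
    refine (IsSolvable.commutator_lt_top_of_nontrivial ((H ⧸ X) ⧸ R)).ne ?_
    rw [eq_top_iff]
    have h1 : (⊤ : Subgroup ((H ⧸ X) ⧸ R)) = (Pb : Subgroup (H ⧸ X)).map (QuotientGroup.mk' R) := by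
      have h := congrArg (Subgroup.map (QuotientGroup.mk' R)) (H22.pResidual_sup_sylow Pb)
      rw [Subgroup.map_sup, ← hR, (Subgroup.map_eq_bot_iff R).2 (by rw [QuotientGroup.ker_mk']),
        bot_sup_eq, map_top_of_surjective _ (QuotientGroup.mk'_surjective R)] at h
      exact h.symm
    rw [h1, hPbe, map_map]
    refine (map_mono hP).trans ?_
    rw [_root_.commutator_def, map_commutator, _root_.commutator_def]
    exact commutator_mono le_top le_top
  set N := normalizer ((P : Subgroup H) : Set H) with hN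
  set Nb := normalizer ((Pb : Subgroup (H ⧸ X)) : Set (H ⧸ X)) with hNb
  have hNb' : Nb ≤ N.map π := by
    intro g hg
    obtain ⟨g, rfl⟩ := hπs g
    refine ⟨g, ?_, rfl⟩
    have hle : (P : Subgroup H).map (MulAut.conj g).toMonoidHom ≤ (P : Subgroup H) := by
      rintro _ ⟨y, hy, rfl⟩
      obtain ⟨z, hz, hzy⟩ := (mem_normalizer_iff.1 hg (π y)).1 (hPbe ▸ mem_map_of_mem π hy)
      show g * y * g⁻¹ ∈ (P : Subgroup H)
      rw [← map_inv, ← map_mul, ← map_mul, hπ, QuotientGroup.mk'_apply, QuotientGroup.mk'_apply,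
        QuotientGroup.eq] at hzy
      simpa using mul_mem hz (zpowers_le.2 hxP hzy)
    have heq : (P : Subgroup H).map (MulAut.conj g).toMonoidHom = P :=
      eq_of_le_of_card_ge hle (card_map_of_injective (MulAut.conj g).injective).ge
    rw [hN, SetLike.mem_coe, mem_normalizer_iff]
    intro y
    refine ⟨fun hy => hle ⟨y, hy, rfl⟩, fun hy => ?_⟩
    rw [← heq] at hy
    obtain ⟨z, hz, hzy⟩ := hy
    exact (MulAut.conj g).injective hzy ▸ hz
  have hres' : pResidual p Nb = ⊤ := by
    have h := H89.pResidualOf_sylow_normalizer_eq Pb hcl2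
    rw [hres, top_inf_eq, pResidualOf] at h
    exact map_injective Nb.subtype_injective (h.trans (by rw [← MonoidHom.range_eq_map,
      range_subtype]))
  intro y hy
  have hyb : π y ∈ Nb := le_normalizer (hPbe ▸ mem_map_of_mem π hy)
  obtain ⟨k, hk⟩ := Pb.isPGroup' ⟨π y, hPbe ▸ mem_map_of_mem π hy⟩
  have h1 : (⟨π y, hyb⟩ : Nb) ∈ commutator Nb :=
    H22.mem_commutator_of_pResidual_eq_top hres' _ (k := k)
      (Subtype.ext (by simpa using congrArg Subtype.val hk))
  have h2 : π y ∈ ⁅Nb, Nb⁆ := by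
    rw [← range_subtype Nb, MonoidHom.range_eq_map, ← map_commutator]
    exact ⟨_, h1, rfl⟩
  have h3 : π y ∈ ⁅N, N⁆.map π := by
    rw [map_commutator]
    exact commutator_mono hNb' hNb' h2
  obtain ⟨z, hz, hzy⟩ := h3
  rw [hπ, QuotientGroup.mk'_apply, QuotientGroup.mk'_apply, QuotientGroup.eq] at hzy
  obtain ⟨i, hi⟩ := mem_zpowers_iff.1 hzy
  rw [show y = z * x ^ i by rw [hi, mul_inv_cancel_left]]
  exact mul_mem hz (zpow_mem (commutator_mono le_normalizer le_normalizer hxD) i)

/-- The structure of the Sylow subgroup. -/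
theorem sylow_structure_of_central (hp2 : p ≠ 2) (P : Sylow p H) {x : H} (hx : orderOf x = p)
    (hxH : x ∈ center H) (hP : (P : Subgroup H) ≤ commutator H)
    (hrk : Cfsg.PRankLE p 2 (P : Subgroup H)) :
    (Cfsg.IsExtraspecial p (P : Subgroup H) ∧ Nat.card (P : Subgroup H) = p ^ 3 ∧
        ∀ y ∈ (P : Subgroup H), y ^ p = 1) ∨
      (p = 3 ∧ ∃ k : ℕ, 2 ≤ k ∧ Nat.card (P : Subgroup H) = 3 ^ (2 * k + 1) ∧
        ∃ _ : Group.IsNilpotent (P : Subgroup H),
          Group.nilpotencyClass (P : Subgroup H) = 2 * k) := by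
  have hPp : IsPGroup p (P : Subgroup H) := P.isPGroup'
  haveI := hPp.isNilpotent
  have hxP : x ∈ (P : Subgroup H) := by
    haveI : (zpowers x).Normal := H24.normal_of_le_center (zpowers_le.2 hxH)
    have hX : IsPGroup p (zpowers x) :=
      IsPGroup.of_card (n := 1) (by rw [Nat.card_zpowers, hx, pow_one])
    have h := P.is_maximal' (hX.to_sup_of_normal_left P.isPGroup') le_sup_right
    exact h ▸ (le_sup_left : zpowers x ≤ zpowers x ⊔ (P : Subgroup H)) (mem_zpowers x)
  set x₀ : (P : Subgroup H) := ⟨x, hxP⟩ with hx₀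
  have hx1 : x₀ ≠ 1 := fun h => by
    rw [show x = 1 from congrArg Subtype.val h, orderOf_one] at hx
    exact hp.out.one_lt.ne hx
  have hxc : x₀ ∈ center (P : Subgroup H) :=
    mem_center_iff.2 fun g => Subtype.ext (mem_center_iff.1 hxH g)
  have hxD : x ∈ ⁅(P : Subgroup H), (P : Subgroup H)⁆ := by
    by_contra hnot
    refine S1241.result (p := p) (P : Subgroup H) ⁅(P : Subgroup H), (P : Subgroup H)⁆
      (commutator_le.2 fun a ha b hb => ?_) ⟨fun k hk g => ?_⟩
      (fun a ha b hb => commutator_mem_commutator ha hb) ?_ x hxP hnot ⟨1, by rw [hx, pow_one]⟩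
      (fun m a _ => ?_) (hP hxP)
    · exact mul_mem (mul_mem (mul_mem ha hb) (inv_mem ha)) (inv_mem hb)
    · rw [mem_subgroupOf] at hk ⊢
      have : (g : H) * k * (g : H)⁻¹ = ⁅(g : H), (k : H)⁆ * k := by
        rw [commutatorElement_def, inv_mul_cancel_right]
      push_cast
      rw [this]
      exact mul_mem (commutator_mem_commutator g.2 k.2) hk
    · exact ((Nat.Prime.coprime_iff_not_dvd hp.out).2 P.not_dvd_index)
    · rw [mem_center_iff.1 (zpow_mem hxH m) a, mul_inv_cancel_right, mul_inv_cancel]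
      exact one_mem _
  have hxQ : x₀ ∈ commutator (P : Subgroup H) := by
    have h := hxD
    rw [← range_subtype (P : Subgroup H), MonoidHom.range_eq_map, ← map_commutator] at h
    obtain ⟨c, hc, hcx⟩ := h
    exact (show c = x₀ from Subtype.ext hcx) ▸ hc
  have hna : ¬ IsMulCommutative (P : Subgroup H) := fun h => by
    have hle : commutator (P : Subgroup H) = ⊥ := by
      rw [_root_.commutator_def, Subgroup.commutator_eq_bot_iff_le_centralizer]
      exact fun g _ => mem_centralizer_iff.2 fun y _ => h.is_comm.comm y g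
    rw [hle, mem_bot] at hxQ
    exact hx1 hxQ
  have hclass : (∀ s t g : (P : Subgroup H), ⁅⁅s, t⁆, g⁆ ∈ zpowers x₀) → Moved x₀ := fun hcl =>
    moved_of_control P hxP hxH _ le_normalizer
      (le_normalizer_commutator hp2 P hxP hxH hP hxD hcl) fun a ha y _ _ => ⟨a, ha, rfl⟩
  -- not metacyclic
  have hnm : ¬ Cfsg.IsMetacyclic (P : Subgroup H) := by
    intro hm
    refine not_moved_of_metacyclic hPp hp2 hm hx1 hxQ
      (moved_of_control P hxP hxH ⊤ le_top (hP.trans (_root_.commutator_def H).le)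
        fun a _ y hy hay => ?_)
    obtain ⟨-, hN⟩ := H95.isNormal_of_metacyclic_odd (S := (P : Subgroup H)) hPp
      (H93.isSaturated_groupFusionSystem P) hp2
      (P := (P : Subgroup H)) ⟨le_rfl, fun R hR φ hφ r => hφ.2.1 r⟩ hm
    have hR : zpowers y ≤ (P : Subgroup H) := zpowers_le.2 hy
    obtain ⟨ψ, ⟨-, -, g, hg⟩, hext, hmap⟩ := hN (zpowers y)
      ((MulAut.conj a).toMonoidHom.comp (zpowers y).subtype)
      ⟨hR, fun r => by
        obtain ⟨i, hi⟩ := mem_zpowers_iff.1 r.2
        show a * (r : H) * a⁻¹ ∈ (P : Subgroup H)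
        rw [← hi, ← conj_zpow]
        exact zpow_mem hay i, a, fun r => rfl⟩
    refine ⟨g, ?_, ?_⟩
    · have hle : ∀ z ∈ (P : Subgroup H), g * z * g⁻¹ ∈ (P : Subgroup H) := fun z hz =>
        hmap.le ⟨⟨z, mem_sup_right hz⟩, mem_subgroupOf.2 hz, hg _⟩
      rw [mem_normalizer_iff]
      refine fun z => ⟨hle z, fun hz => ?_⟩
      obtain ⟨w, hw, hwz⟩ := hmap.ge hz
      rw [hg w] at hwz
      rw [← mul_left_cancel (mul_right_cancel hwz)]
      exact mem_subgroupOf.1 hw
    · have h1 := hext ⟨y, mem_zpowers y⟩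
      rw [hg] at h1
      exact h1
  obtain ⟨n, hn⟩ := hPp.exists_card_eq
  have hn3 : 3 ≤ n := by
    by_contra hlt
    apply hna
    have hlt' : n = 0 ∨ n = 1 ∨ n = 2 := by omega
    rcases hlt' with rfl | rfl | rfl
    · haveI : Subsingleton (P : Subgroup H) :=
        (Nat.card_eq_one_iff_unique.1 (by rw [hn, pow_zero])).1
      exact ⟨⟨fun a b => Subsingleton.elim _ _⟩⟩
    · haveI := isCyclic_of_prime_card (α := (P : Subgroup H)) (by rw [hn, pow_one])
      exact IsCyclic.isMulCommutative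
    · exact IsMulCommutative.of_comm (IsPGroup.commutative_of_card_eq_prime_sq hn)
  rcases Nat.eq_or_lt_of_le hn3 with rfl | hn4
  · -- order `p³`
    have hexp : ∀ g : (P : Subgroup H), g ^ p = 1 := by
      intro g
      by_contra hg
      apply hnm
      obtain ⟨i, hi3, hi⟩ := (Nat.dvd_prime_pow hp.out).1 (hn ▸ orderOf_dvd_natCard g)
      have hi1 : i ≠ 0 := by
        rintro rfl
        rw [pow_zero, orderOf_eq_one_iff] at hi
        exact hg (by rw [hi, one_pow])
      have hi2 : i ≠ 1 := by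
        rintro rfl
        exact hg (orderOf_dvd_iff_pow_eq_one.1 (by rw [hi, pow_one]))
      have hi3' : i ≠ 3 := by
        rintro rfl
        haveI := isCyclic_of_orderOf_eq_card g (hi.trans hn.symm)
        exact hna IsCyclic.isMulCommutative
      obtain rfl : i = 2 := by omega
      have hidx : (zpowers g).index = p := by
        have h := (zpowers g).card_mul_index
        rw [Nat.card_zpowers, hi, hn, pow_succ p 2] at h
        exact Nat.eq_of_mul_eq_mul_left (pow_pos hp.out.pos 2) h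
      have hnorm : (zpowers g).Normal := normal_of_index_eq_minFac_card (by
        rw [hidx, hn, Nat.pow_minFac (by norm_num), hp.out.minFac_eq])
      refine ⟨zpowers g, hnorm, inferInstance, ?_⟩
      exact isCyclic_of_prime_card (p := p) hidx
    left
    have hcl : Group.nilpotencyClass (P : Subgroup H) = 2 := by
      have h1 := H24.class_le_pred (P : Subgroup H) p 3 hn (by norm_num)
      have h2 : ¬ Group.nilpotencyClass (P : Subgroup H) ≤ 1 := fun h => by
        have h3 := Subgroup.lowerCentralSeries_eq_bot_iff_nilpotencyClass_le.2 h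
        rw [Subgroup.top_lowerCentralSeries_one] at h3
        rw [h3, mem_bot] at hxQ
        exact hx1 hxQ
      omega
    have hcen := (H24.index_commutator_of_max_class (P : Subgroup H) p 3 hn (by norm_num) hcl).2
      le_rfl
    refine ⟨H24.isExtraspecial_of hPp hcen (fun h => hna ?_) (fun a b => ?_)
      (fun z => by rw [hexp]; exact one_mem _), hn,
      fun y hy => congrArg Subtype.val (hexp ⟨y, hy⟩)⟩
    · exact IsMulCommutative.of_comm fun a b => (mem_center_iff.1 (h ▸ mem_top b) a)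
    · have h3 := Subgroup.lowerCentralSeries_eq_bot_iff_nilpotencyClass_le.2 hcl.le
      rw [Subgroup.lowerCentralSeries_succ, Subgroup.top_lowerCentralSeries_one,
        Subgroup.commutator_eq_bot_iff_le_centralizer] at h3
      rw [mem_center_iff]
      exact fun g => mem_centralizer_iff.1
        (h3 (commutator_mem_commutator (mem_top a) (mem_top b))) g (mem_top g)
  -- order at least `p⁴`
  rcases H24.rank_two_classification (G := (P : Subgroup H)) hp2 n hn hrk with
    hm | ⟨-, a, b, c, hgen, -, -, hc, hac, hbc, hab⟩ |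
    ⟨-, s, a, b, c, hs, hgen, ha, hb, hc, hbc, hab, hac⟩ | ⟨rfl, -, hlcs⟩
  · exact absurd hm hnm
  · obtain ⟨hcl, hnmv⟩ := not_moved_of_CFam hp2 hn4 hgen hc hac hbc hab hx1 hxQ
    exact absurd (hclass hcl) hnmv
  · have hs0 : (s : ZMod p) ≠ 0 := by
      rcases hs with rfl | hs
      · rw [Nat.cast_one]; exact one_ne_zero
      · exact fun h => hs (h ▸ IsSquare.zero)
    obtain ⟨hcl, hnmv⟩ :=
      not_moved_of_GFam ⟨hn4, hn, hs0, hgen, ha, hb, hc, hbc, hab, hac⟩ hx1 hxc hxQ
    exact absurd (hclass hcl) hnmv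
  · right
    have hcl : Group.nilpotencyClass (P : Subgroup H) = n - 1 := by
      have h1 := H24.class_le_pred (P : Subgroup H) 3 n hn (by omega)
      have h2 : ¬ Group.nilpotencyClass (P : Subgroup H) ≤ n - 2 := fun h =>
        hlcs (Subgroup.lowerCentralSeries_eq_bot_iff_nilpotencyClass_le.2 h)
      omega
    refine ⟨rfl, ?_⟩
    rcases Nat.even_or_odd n with hev | ⟨k, hk⟩
    · exact (max_class_even_false (P : Subgroup H) hP P.not_dvd_index hn hn4 hev hcl hrk hxP hx
        hxH).elim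
    · exact ⟨k, by omega, by rw [← hk, hn], inferInstance, by omega⟩

end Cfsg.Agent.H51.IsolatedSylow
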