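import Cfsg.Agent.H51.IsolatedSylow.Structure

/-!
A `3`-group of maximal class, rank two and even exponent: the centralizer `C` of the normal
elementary subgroup of order nine has index three, power maps are homomorphisms on it, and the
centralizer of an element outside it is generated by that element and the centre.
-/

set_option autoImplicit false
set_option linter.style.haveILetI false

namespace Cfsg.Agent.H51.IsolatedSylow

open Subgroup
open scoped commutatorElement

variable {Q : Type*} [Group Q] [Finite Q]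

/-- Elements commuting elementwise with a normal elementary subgroup of order `p²`, of order `p`,
lie in it when the rank is at most two. -/
theorem mem_of_rank_two {p : ℕ} [hp : Fact p.Prime] (hrk : Cfsg.PRankLE p 2 Q) {E : Subgroup Q}
    [hEn : E.Normal] (hEc : IsMulCommutative E) (hEp : ∀ e ∈ E, e ^ p = 1)
    (hE : Nat.card E = p ^ 2) {c : Q} (hc : c ∈ centralizer (E : Set Q)) (hcp : c ^ p = 1) :
    c ∈ E := by
  by_contra hcE
  set A := zpowers c ⊔ E with hA
  have hform : ∀ a ∈ A, ∃ i : ℤ, ∃ e ∈ E, a = c ^ i * e := by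
    intro a ha
    rw [hA, ← SetLike.mem_coe, Subgroup.mul_normal] at ha
    obtain ⟨y, hy, e, he, rfl⟩ := ha
    obtain ⟨i, rfl⟩ := mem_zpowers_iff.1 hy
    exact ⟨i, e, he, rfl⟩
  have hcomm : ∀ (i : ℤ), ∀ e ∈ E, Commute (c ^ i) e := fun i e he =>
    (show Commute c e from (mem_centralizer_iff.1 hc e he).symm).zpow_left i
  have hEE : ∀ e ∈ E, ∀ f ∈ E, Commute e f := fun e he f hf =>
    congrArg Subtype.val (hEc.is_comm.comm ⟨e, he⟩ ⟨f, hf⟩)
  have hAc : IsMulCommutative A := ⟨⟨fun ⟨a, ha⟩ ⟨a', ha'⟩ => Subtype.ext <| by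
    obtain ⟨i, e, he, rfl⟩ := hform a ha
    obtain ⟨j, f, hf, rfl⟩ := hform a' ha'
    exact (((Commute.zpow_zpow_self c i j).mul_right (hcomm i f hf)).mul_left
      ((hcomm j e he).symm.mul_right (hEE e he f hf))).eq⟩⟩
  have hAp : ∀ a ∈ A, a ^ p = 1 := fun a ha => by
    obtain ⟨i, e, he, rfl⟩ := hform a ha
    rw [(hcomm i e he).mul_pow, ← zpow_natCast, ← zpow_mul, mul_comm i, zpow_mul, zpow_natCast,
      hcp, one_zpow, one_mul, hEp e he]
  have hlt : E < A := lt_of_le_of_ne le_sup_right fun h =>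
    hcE (h ▸ (le_sup_left : zpowers c ≤ A) (mem_zpowers c))
  have h1 := hrk A hAc hAp
  exact hlt.ne (eq_of_le_of_card_ge hlt.le (hE ▸ h1))

/-- The data used in the transfer argument. -/
theorem max_class_even_data [Group.IsNilpotent Q] {n : ℕ} (hcard : Nat.card Q = 3 ^ n) (hn : 4 ≤ n)
    (hev : Even n) (hcl : Group.nilpotencyClass Q = n - 1) (hrk : Cfsg.PRankLE 3 2 Q) {x : Q}
    (hx : orderOf x = 3) (hxc : x ∈ center Q) :
    ∃ (C : Subgroup Q) (b : ℕ) (u v : Q), 1 ≤ b ∧ x ∈ C ∧ u ∈ C ∧ u ∉ commutator Q ∧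
      u ^ 3 ^ b = x ∧ orderOf u = 3 ^ (b + 1) ∧ v ^ 3 = 1 ∧ Commute v u ∧ v ∉ zpowers u ∧
      (∀ g : Q, g ^ 3 ∈ commutator Q) ∧
      (∀ a ∈ C, ∀ c ∈ C, a ^ 3 ^ b = c ^ 3 ^ b → a * c⁻¹ ∈ commutator Q) ∧
      (∀ y : Q, y ∉ C → ∀ e : Q, Commute e y → ∃ i : ℤ, e * y ^ i ∈ zpowers x) := by
  haveI : Fact (Nat.Prime 3) := ⟨Nat.prime_three⟩
  have hP : IsPGroup 3 Q := IsPGroup.of_card hcard
  obtain ⟨hidx, hcen⟩ := H24.index_commutator_of_max_class Q 3 n hcard (by omega) hcl
  have hcen3 := hcen (by omega)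
  have hX : zpowers x = center Q :=
    eq_of_le_of_card_ge (zpowers_le.2 hxc) (by rw [hcen3, Nat.card_zpowers, hx])
  have hcardX : Nat.card (zpowers x) = 3 := by rw [Nat.card_zpowers, hx]
  have hcardD : Nat.card (commutator Q) = 3 ^ (n - 2) := by
    have h := (commutator Q).card_mul_index
    rw [hidx, hcard, show n = n - 2 + 2 by omega, pow_add] at h
    exact Nat.eq_of_mul_eq_mul_right (by norm_num) h
  -- small normal subgroups form a chain
  have hchain : ∀ N M : Subgroup Q, N.Normal → M.Normal → ∀ k l : ℕ, Nat.card N = 3 ^ k →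
      Nat.card M = 3 ^ l → k ≤ l → l + 2 ≤ n → N ≤ M := by
    intro N M hN hM k l hk hl hkl hln
    have key : ∀ (A : Subgroup Q) [A.Normal] (i : ℕ), Nat.card A = 3 ^ i → i + 2 ≤ n →
        A = (⊤ : Subgroup Q).lowerCentralSeries (n - i - 1) := by
      intro A _ i hi hin
      refine H35.eq_lowerCentralSeries_of_max_class n hcard hcl (by omega) A (n - i) (by omega) ?_
      have h := A.card_mul_index
      rw [hi, hcard, show n = i + (n - i) by omega, pow_add] at h
      exact Nat.eq_of_mul_eq_mul_left (by positivity) h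
    rw [key N k hk (by omega), key M l hl hln]
    exact Subgroup.lowerCentralSeries_antitone ⊤ (by omega)
  have hnc : ¬ IsCyclic Q := fun h => by
    have h1 : center Q = ⊤ := by
      haveI := h.isMulCommutative
      exact eq_top_iff.2 fun g _ => mem_center_iff.2 fun y => this.is_comm.comm y g
    rw [h1, Subgroup.card_top, hcard] at hcen3
    have := Nat.pow_right_injective (le_refl 2 |>.trans (by norm_num : 2 ≤ 3))
      (hcen3.trans (pow_one 3).symm)
    omega
  obtain ⟨E, hEn, hEc, hEp, hE⟩ := H24.exists_normal_elementary_two Q 3 (by norm_num) hP hnc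
  haveI := hEn
  have hEnc : ¬ IsCyclic E := fun h => by
    obtain ⟨g, hg⟩ := h.exists_generator
    have hz : zpowers g = ⊤ := eq_top_iff.2 fun z _ => hg z
    have h1 : Nat.card E = orderOf g := by
      rw [← Nat.card_zpowers, hz, Subgroup.card_top]
    have h2 : orderOf g ≤ 3 := Nat.le_of_dvd (by norm_num)
      (orderOf_dvd_of_pow_eq_one (Subtype.ext (by simpa using hEp _ g.2)))
    omega
  haveI hXn : (zpowers x).Normal := by rw [hX]; infer_instance
  have hXE : zpowers x ≤ E :=
    hchain _ _ hXn hEn 1 2 (by rw [hcardX, pow_one]) hE (by omega) (by omega)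
  -- the centralizer of `E`
  set C := centralizer (E : Set Q) with hC
  haveI hCn : C.Normal := inferInstance
  have hEC : E ≤ C := fun e he => mem_centralizer_iff.2 fun f hf =>
    congrArg Subtype.val (hEc.is_comm.comm ⟨f, hf⟩ ⟨e, he⟩)
  have hCi : C.index = 3 := by
    have h1 := H24.index_centralizer_le hP (B := E) hE
    rw [show Nat.choose 2 2 = 1 from rfl, pow_one] at h1
    obtain ⟨i, hi⟩ := hP.index C
    rw [← hC, hi] at h1
    have hi0 : i ≠ 0 := by
      rintro rfl
      rw [pow_zero, index_eq_one, hC] at hi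
      have h2 : E ≤ center Q := fun e he => mem_center_iff.2 fun g =>
        ((mem_centralizer_iff.1 (hi ▸ mem_top g)) e he).symm
      have h3 := Subgroup.card_le_of_le h2
      omega
    have hi2 : i ≤ 1 := (Nat.pow_le_pow_iff_right (by norm_num : 1 < 3)).1 (by rwa [pow_one])
    rw [hi, show i = 1 by omega, pow_one]
  have hcardC : Nat.card C = 3 ^ (n - 1) := by
    have h := C.card_mul_index
    rw [hCi, hcard, show n = n - 1 + 1 by omega, pow_succ] at h
    exact Nat.eq_of_mul_eq_mul_right (by norm_num) h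
  have hC3 : ∀ c ∈ C, (c ^ 3 = 1 ↔ c ∈ E) := fun c hc =>
    ⟨fun h => mem_of_rank_two hrk hEc hEp hE hc h, hEp c⟩
  -- `C` is metacyclic, so its derived subgroup lies in the centre
  have hCC : ⁅C, C⁆ ≤ zpowers x := by
    have hm : Cfsg.IsMetacyclic C := by
      rcases H24.metacyclic_or_max_class C 3 (n - 1) (by norm_num) hcardC (E.subgroupOf C)
        (by rw [Nat.card_congr (subgroupOfEquivOfLe hEC).toEquiv, hE])
        (fun c h => (hC3 c c.2).1 (by simpa using congrArg Subtype.val h)) with h | ⟨-, h3, h⟩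
      · exact h
      · exfalso
        have h1 := (H24.index_commutator_of_max_class C 3 (n - 1) hcardC (by omega) h).2 h3
        have h2 : E.subgroupOf C ≤ center C := fun e he => mem_center_iff.2 fun g =>
          Subtype.ext ((mem_centralizer_iff.1 g.2 e he).symm)
        have h4 := Subgroup.card_le_of_le h2
        rw [Nat.card_congr (subgroupOfEquivOfLe hEC).toEquiv, hE, h1] at h4
        omega
    obtain ⟨N, hN, hNc, hq⟩ := hm
    have hDN : commutator C ≤ N := by
      rw [_root_.commutator_def, Subgroup.commutator_le]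
      intro a _ b _
      rw [← QuotientGroup.eq_one_iff, ← QuotientGroup.mk'_apply, map_commutatorElement,
        commutatorElement_eq_one_iff_mul_comm]
      exact hq.isMulCommutative.is_comm.comm _ _
    haveI : IsCyclic (commutator C) :=
      isCyclic_of_injective (inclusion hDN) (inclusion_injective hDN)
    have hmap : (commutator C).map C.subtype = ⁅C, C⁆ := by
      rw [_root_.commutator_def, map_commutator, ← MonoidHom.range_eq_map, range_subtype]
    haveI hDc : IsCyclic ↥(⁅C, C⁆) := by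
      rw [← hmap]
      exact isCyclic_of_surjective _
        ((commutator C).equivMapOfInjective C.subtype C.subtype_injective).surjective
    obtain ⟨k, hk⟩ := (hP.to_subgroup ⁅C, C⁆).exists_card_eq
    have hkn : k + 2 ≤ n := by
      have h1 := Subgroup.card_le_of_le
        (Subgroup.commutator_mono (le_top (a := C)) (le_top (a := C)))
      rw [← _root_.commutator_def, hcardD, hk] at h1
      have := (Nat.pow_le_pow_iff_right (by norm_num : 1 < 3)).1 h1
      omega
    rcases Nat.lt_or_ge k 2 with h2 | h2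
    · exact hchain _ _ inferInstance hXn k 1 hk (by rw [hcardX, pow_one]) (by omega) (by omega)
    · have h3 : E ≤ ⁅C, C⁆ := hchain _ _ hEn inferInstance 2 k hE hk h2 hkn
      exact absurd (isCyclic_of_injective (inclusion h3) (inclusion_injective h3)) hEnc
  -- power maps on `C`
  have hmul : ∀ (j : ℕ) (a b : C),
      ((a : Q) * b) ^ 3 ^ j = (a : Q) ^ 3 ^ j * (b : Q) ^ 3 ^ j := by
    intro j a b
    rcases Nat.eq_zero_or_pos j with rfl | hj
    · simp
    have h1 := hCC (commutator_mem_commutator b.2 a.2)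
    refine mul_pow_dvd_of_class_two (p := 3) (by norm_num) (hX ▸ h1) ?_ (dvd_pow_self 3 hj.ne')
    obtain ⟨i, hi⟩ := mem_zpowers_iff.1 h1
    rw [← hi, ← zpow_natCast, ← zpow_mul, mul_comm, zpow_mul, zpow_natCast,
      show x ^ 3 = 1 by rw [← hx, pow_orderOf_eq_one], one_zpow]
  let ψ : ℕ → (C →* Q) := fun j =>
    { toFun := fun c => (c : Q) ^ 3 ^ j
      map_one' := by simp
      map_mul' := fun a b => by rw [Subgroup.coe_mul]; exact hmul j a b }
  have hψ : ∀ j c, ψ j c = (c : Q) ^ 3 ^ j := fun j c => rfl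
  have hrangen : ∀ j, (ψ j).range.Normal := fun j => ⟨by
    rintro _ ⟨c, rfl⟩ g
    exact ⟨⟨g * c * g⁻¹, hCn.conj_mem _ c.2 g⟩, by rw [hψ, hψ, conj_pow]⟩⟩
  have hrangeC : ∀ j, (ψ j).range ≤ C := by
    rintro j _ ⟨c, rfl⟩
    rw [hψ]
    exact pow_mem c.2 _
  obtain ⟨t, ht⟩ := hev
  set b := t - 1 with hb
  have hker : ∀ j, 1 ≤ j → j ≤ b → Nat.card (ψ j).ker = 9 ^ j := by
    intro j hj
    induction j, hj using Nat.le_induction with
    | base =>
      intro _
      have h1 : (ψ 1).ker = E.subgroupOf C := by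
        ext c
        rw [MonoidHom.mem_ker, hψ, pow_one, mem_subgroupOf]
        exact hC3 c c.2
      rw [h1, Nat.card_congr (subgroupOfEquivOfLe hEC).toEquiv, hE]
      norm_num
    | succ j hj ih =>
      intro hjb
      specialize ih (by omega)
      have hc := (ψ j).ker.card_mul_index
      rw [index_ker, ih, hcardC, show (9 : ℕ) = 3 ^ 2 by norm_num, ← pow_mul,
        show n - 1 = 2 * j + (n - 1 - 2 * j) by omega, pow_add] at hc
      have hR : Nat.card (ψ j).range = 3 ^ (n - 1 - 2 * j) :=
        Nat.eq_of_mul_eq_mul_left (by positivity) hc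
      have hER : E ≤ (ψ j).range :=
        hchain _ _ hEn (hrangen j) 2 _ hE hR (by omega) (by omega)
      have hK : (ψ (j + 1)).ker = E.comap (ψ j) := by
        ext c
        rw [MonoidHom.mem_ker, mem_comap, hψ, hψ, pow_succ, pow_mul]
        exact hC3 _ (pow_mem c.2 _)
      rw [hK]
      have h1 := (E.comap (ψ j)).card_mul_index
      rw [index_comap] at h1
      have h2 : Nat.card E * E.relIndex (ψ j).range = Nat.card (ψ j).range := by
        rw [← Nat.card_congr (subgroupOfEquivOfLe hER).toEquiv]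
        exact (E.subgroupOf (ψ j).range).card_mul_index
      have h3 := (ψ j).ker.card_mul_index
      rw [index_ker, ← h2, ih, hE, ← h1] at h3
      have hrel : E.relIndex (ψ j).range ≠ 0 := by
        intro h0
        rw [h0, mul_zero] at h2
        exact Nat.card_pos.ne' h2.symm
      apply Nat.eq_of_mul_eq_mul_right (Nat.pos_of_ne_zero hrel)
      rw [← h3, pow_succ]
      ring
  have hb1 : 1 ≤ b := by omega
  have hkerb := hker b hb1 le_rfl
  rw [show (9 : ℕ) = 3 ^ 2 by norm_num, ← pow_mul, show 2 * b = n - 2 by omega] at hkerb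
  have hRb : Nat.card (ψ b).range = 3 := by
    have hc := (ψ b).ker.card_mul_index
    rw [index_ker, hkerb, hcardC, show n - 1 = n - 2 + 1 by omega, pow_succ] at hc
    exact Nat.eq_of_mul_eq_mul_left (by positivity) hc
  have hxR : x ∈ (ψ b).range :=
    hchain _ _ hXn (hrangen b) 1 1 (by rw [hcardX, pow_one]) (by rw [hRb, pow_one]) le_rfl
      (by omega) (mem_zpowers x)
  have hkerD : (ψ b).ker.map C.subtype = commutator Q := by
    have hn' : ((ψ b).ker.map C.subtype).Normal := ⟨by
      rintro _ ⟨c, hc, rfl⟩ g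
      refine ⟨⟨g * c * g⁻¹, hCn.conj_mem _ c.2 g⟩, ?_, rfl⟩
      rw [SetLike.mem_coe, MonoidHom.mem_ker, hψ] at hc ⊢
      rw [conj_pow, hc, mul_one, mul_inv_cancel]⟩
    have h1 : Nat.card ((ψ b).ker.map C.subtype) = 3 ^ (n - 2) := by
      rw [Nat.card_congr ((ψ b).ker.equivMapOfInjective _ C.subtype_injective).symm.toEquiv, hkerb]
    exact le_antisymm (hchain _ _ hn' inferInstance _ _ h1 hcardD le_rfl (by omega))
      (hchain _ _ inferInstance hn' _ _ hcardD h1 le_rfl (by omega))
  have hdiv : ∀ a ∈ C, ∀ c ∈ C, a ^ 3 ^ b = c ^ 3 ^ b → a * c⁻¹ ∈ commutator Q := by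
    intro a ha c hc h
    rw [← hkerD]
    refine ⟨⟨a, ha⟩ * ⟨c, hc⟩⁻¹, ?_, rfl⟩
    rw [SetLike.mem_coe, MonoidHom.mem_ker, map_mul, map_inv, hψ, hψ, h, mul_inv_cancel]
  obtain ⟨⟨u, huC⟩, hu⟩ := hxR
  rw [hψ] at hu
  change u ^ 3 ^ b = x at hu
  have hx3 : x ^ 3 = 1 := by rw [← hx, pow_orderOf_eq_one]
  have hxne : x ≠ 1 := fun h => by rw [h, orderOf_one] at hx; omega
  have hou : orderOf u = 3 ^ (b + 1) :=
    orderOf_eq_prime_pow (by rw [hu]; exact hxne) (by rw [pow_succ, pow_mul, hu, hx3])
  obtain ⟨v, hvE, hvX⟩ : ∃ v ∈ E, v ∉ zpowers x := by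
    by_contra hcon
    push Not at hcon
    have h := Subgroup.card_le_of_le (show E ≤ zpowers x from hcon)
    omega
  have hxC : x ∈ C := hEC (hXE (mem_zpowers x))
  -- centralizers of elements outside `C`
  have hgen : ∀ y ∉ C, C ⊔ zpowers y = ⊤ := by
    intro y hy
    rw [← index_eq_one]
    have h1 := Subgroup.index_dvd_of_le (le_sup_left : C ≤ C ⊔ zpowers y)
    rw [hCi] at h1
    refine ((Nat.dvd_prime Nat.prime_three).1 h1).resolve_right fun h => hy ?_
    have hle : C ≤ C ⊔ zpowers y := le_sup_left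
    have h3 := (C ⊔ zpowers y).card_mul_index
    rw [h, hcard, show n = n - 1 + 1 by omega, pow_succ] at h3
    rw [eq_of_le_of_card_ge hle (by rw [hcardC, Nat.eq_of_mul_eq_mul_right (by norm_num) h3])]
    exact (le_sup_right : zpowers y ≤ C ⊔ zpowers y) (mem_zpowers y)
  set π := QuotientGroup.mk' (center Q) with hπ
  have hW : (center (Q ⧸ center Q)).comap π = E := by
    have h1 : Nat.card (Q ⧸ center Q) = 3 ^ (n - 1) := by
      have h := (center Q).card_mul_index
      rw [hcen3, hcard, show n = 1 + (n - 1) by omega, pow_add, pow_one] at h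
      exact Nat.eq_of_mul_eq_mul_left (by norm_num) h
    haveI : Group.IsNilpotent (Q ⧸ center Q) := (IsPGroup.of_card h1).isNilpotent
    have h2 := (H24.index_commutator_of_max_class (Q ⧸ center Q) 3 (n - 1) h1 (by omega)
      (by rw [Group.nilpotencyClass_quotient_center, hcl])).2 (by omega)
    have h3 : Nat.card ((center (Q ⧸ center Q)).comap π) = 3 ^ 2 := by
      have h4 := ((center (Q ⧸ center Q)).comap π).card_mul_index
      rw [index_comap_of_surjective _ (QuotientGroup.mk'_surjective _)] at h4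
      have h5 := (center (Q ⧸ center Q)).card_mul_index
      have h6 := (center Q).card_mul_index
      rw [h2] at h5
      rw [show (center Q).index = Nat.card (Q ⧸ center Q) from rfl, ← h5, hcen3, ← h4,
        ← mul_assoc] at h6
      exact (Nat.eq_of_mul_eq_mul_right (Nat.pos_of_ne_zero index_ne_zero_of_finite) h6).symm
    exact le_antisymm (hchain _ _ inferInstance hEn 2 2 h3 hE le_rfl (by omega))
      (hchain _ _ hEn inferInstance 2 2 hE h3 le_rfl (by omega))
  have hcy : ∀ y ∉ C, ∀ d ∈ C, Commute d y → d ∈ zpowers x := by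
    intro y hy d hd hdy
    have hdE : d ∈ E := by
      rw [← hW, mem_comap, mem_center_iff]
      intro g
      obtain ⟨g, rfl⟩ := QuotientGroup.mk'_surjective (center Q) g
      have h1 : (⊤ : Subgroup Q) ≤ (centralizer {π d}).comap π := by
        rw [← hgen y hy, sup_le_iff]
        refine ⟨fun c hc => ?_, zpowers_le.2 ?_⟩
        · rw [mem_comap, mem_centralizer_singleton_iff, ← commutatorElement_eq_one_iff_mul_comm,
            ← map_commutatorElement, hπ, QuotientGroup.mk'_apply, QuotientGroup.eq_one_iff, ← hX]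
          exact hCC (commutator_mem_commutator hc hd)
        · rw [mem_comap, mem_centralizer_singleton_iff, ← map_mul, ← map_mul, hdy.eq]
      exact mem_centralizer_singleton_iff.1 (h1 (mem_top g))
    have h1 : (⊤ : Subgroup Q) ≤ centralizer {d} := by
      rw [← hgen y hy, sup_le_iff]
      exact ⟨fun c hc => mem_centralizer_singleton_iff.2 (mem_centralizer_iff.1 hc d hdE).symm,
        zpowers_le.2 (mem_centralizer_singleton_iff.2 hdy.eq.symm)⟩
    rw [hX, mem_center_iff]
    exact fun g => mem_centralizer_singleton_iff.1 (h1 (mem_top g))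
  refine ⟨C, b, u, v, hb1, hxC, huC, ?_, hu, hou, hEp v hvE, ?_, ?_, ?_, hdiv, ?_⟩
  · intro huD
    rw [← hkerD] at huD
    obtain ⟨c, hc, hcu⟩ := huD
    rw [SetLike.mem_coe, MonoidHom.mem_ker, hψ, show (c : Q) = u from hcu, hu] at hc
    exact hxne hc
  · exact mem_centralizer_iff.1 huC v hvE
  · intro hv
    obtain ⟨i, rfl⟩ := mem_zpowers_iff.1 hv
    apply hvX
    have h1 := hEp _ hvE
    rw [← zpow_natCast, ← zpow_mul, ← orderOf_dvd_iff_zpow_eq_one, hou] at h1
    push_cast at h1
    rw [pow_succ] at h1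
    obtain ⟨m, rfl⟩ := Int.dvd_of_mul_dvd_mul_right (by norm_num) h1
    refine mem_zpowers_iff.2 ⟨m, ?_⟩
    rw [← hu, ← zpow_natCast, ← zpow_mul]
    norm_num
  · -- cubes lie in the derived subgroup
    intro g
    by_cases hg : g ∈ C
    · obtain ⟨i, hi⟩ : g ^ 3 ^ b ∈ zpowers x := by
        have h1 : (ψ b).range ≤ zpowers x :=
          hchain _ _ (hrangen b) hXn 1 1 (by rw [hRb, pow_one]) (by rw [hcardX, pow_one]) le_rfl
            (by omega)
        exact h1 ⟨⟨g, hg⟩, rfl⟩
      have := hdiv (g ^ 3) (pow_mem hg 3) 1 (one_mem _) (by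
        rw [one_pow, ← pow_mul, mul_comm, pow_mul, ← hi, ← zpow_natCast, ← zpow_mul, mul_comm,
          zpow_mul, zpow_natCast, hx3, one_zpow])
      simpa using this
    · exact hchain _ _ hXn inferInstance 1 _ (by rw [hcardX, pow_one]) hcardD (by omega) (by omega)
        (hcy g hg (g ^ 3) (hCi ▸ C.pow_index_mem g) (Commute.pow_self g 3))
  · intro y hy e he
    obtain ⟨c, hc, z, hz, rfl⟩ : ∃ c ∈ C, ∃ z ∈ zpowers y, c * z = e := by
      have h1 : e ∈ C ⊔ zpowers y := (hgen y hy).symm ▸ mem_top e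
      rw [← SetLike.mem_coe, Subgroup.normal_mul] at h1
      exact h1
    obtain ⟨i, rfl⟩ := mem_zpowers_iff.1 hz
    refine ⟨-i, ?_⟩
    rw [zpow_neg, mul_inv_cancel_right]
    refine hcy y hy c hc ?_
    have := he.mul_left ((Commute.refl y).zpow_left i).inv_left
    rwa [mul_inv_cancel_right] at this

end Cfsg.Agent.H51.IsolatedSylow
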