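import Cfsg.Agent.H24.RankTwoOdd
import Cfsg.Agent.H24.RankTwoG
import Cfsg.Agent.H24.ResistantRankTwo
import Cfsg.Agent.H24.MaxClassLie
import Cfsg.Agent.H24.MetacyclicAut
import Cfsg.Agent.H24.Extraspecial
import Cfsg.Agent.H24.SmallRank
import Cfsg.Agent.H24.Power
import Cfsg.Agent.H35.MaxClass
import Cfsg.Agent.H53.MetacyclicAction

/-!
Structure lemmas on `p`-groups of rank two with a distinguished central commutator `x`:
an element moved by no automorphism fixing `x` modulo a subgroup containing the derived subgroup,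
and the odd abelian-by-central maximal subgroup of a `3`-group of maximal class of even exponent.
-/

set_option autoImplicit false
set_option linter.style.haveILetI false

namespace Cfsg.Agent.H51.IsolatedSylow

open Subgroup
open scoped commutatorElement

variable {Q : Type*} [Group Q] [Finite Q] {p : ℕ} [hp : Fact p.Prime]

/-- No proper fixed coset: every element that all automorphisms fixing `x` fix modulo `D` lies in
`D`, for `D` containing the derived subgroup. -/
def Moved (x : Q) : Prop :=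
  ∀ (D : Subgroup Q) (u : Q), commutator Q ≤ D →
    (∀ α : MulAut Q, α x = x → α u * u⁻¹ ∈ D) → u ∈ D

omit [Finite Q] in
theorem mul_pow_dvd_of_class_two (hp2 : p ≠ 2) {a b : Q} (h : ⁅b, a⁆ ∈ center Q)
    (he : ⁅b, a⁆ ^ p = 1) {q : ℕ} (hq : p ∣ q) : (a * b) ^ q = a ^ q * b ^ q := by
  rw [H24.mul_pow_of_class_two h]
  obtain ⟨m, rfl⟩ := hq
  have hcop : Nat.Coprime p 2 :=
    (Nat.Prime.coprime_iff_not_dvd hp.out).2 fun h2 =>
      hp2 ((Nat.prime_dvd_prime_iff_eq hp.out Nat.prime_two).1 h2)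
  have h2 : p * m * (p * m - 1) = 2 * (p * m).choose 2 := by
    have := Nat.choose_two_right (p * m)
    have he2 : 2 ∣ p * m * (p * m - 1) := (Nat.even_mul_pred_self (p * m)).two_dvd
    rw [this, Nat.mul_div_cancel' he2]
  have hd : p ∣ (p * m).choose 2 :=
    hcop.dvd_of_dvd_mul_left (h2 ▸ Dvd.dvd.mul_right (dvd_mul_right p m) _)
  obtain ⟨k, hk⟩ := hd
  rw [hk, pow_mul ⁅b, a⁆, he, one_pow, mul_one]

omit [Finite Q] in
/-- A power map modulo a central series step gives a fixed coset. -/
theorem not_moved_of_power (hp2 : p ≠ 2) (M : Subgroup Q) [M.Normal]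
    (hc : ∀ a b g : Q, ⁅⁅a, b⁆, g⁆ ∈ M) (hcp : ∀ a b : Q, ⁅a, b⁆ ^ p ∈ M) {x u : Q} {q : ℕ}
    (hq : p ∣ q) (hu : u ^ q ∉ M) (hfix : ∀ α : MulAut Q, α x = x → α (u ^ q) * (u ^ q)⁻¹ ∈ M) :
    ¬ Moved x := by
  intro hmov
  have hcen : ∀ a b : Q ⧸ M, ⁅a, b⁆ ∈ center (Q ⧸ M) := by
    intro a b
    obtain ⟨a, rfl⟩ := QuotientGroup.mk'_surjective M a
    obtain ⟨b, rfl⟩ := QuotientGroup.mk'_surjective M b
    rw [mem_center_iff]
    intro g
    obtain ⟨g, rfl⟩ := QuotientGroup.mk'_surjective M g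
    refine (commutatorElement_eq_one_iff_mul_comm.mp ?_).symm
    rw [← map_commutatorElement, ← map_commutatorElement, QuotientGroup.mk'_apply,
      QuotientGroup.eq_one_iff]
    exact hc a b g
  have hpow : ∀ a b : Q ⧸ M, ⁅a, b⁆ ^ p = 1 := by
    intro a b
    obtain ⟨a, rfl⟩ := QuotientGroup.mk'_surjective M a
    obtain ⟨b, rfl⟩ := QuotientGroup.mk'_surjective M b
    rw [← map_commutatorElement, ← map_pow, QuotientGroup.mk'_apply, QuotientGroup.eq_one_iff]
    exact hcp a b
  let ψ : Q →* Q ⧸ M :=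
    { toFun := fun g => (QuotientGroup.mk' M g) ^ q
      map_one' := by simp
      map_mul' := fun a b => by
        rw [map_mul]; exact mul_pow_dvd_of_class_two hp2 (hcen _ _) (hpow _ _) hq }
  have hψ : ∀ g : Q, g ∈ ψ.ker ↔ g ^ q ∈ M := by
    intro g
    rw [MonoidHom.mem_ker]
    show (QuotientGroup.mk' M g) ^ q = 1 ↔ _
    rw [← map_pow, QuotientGroup.mk'_apply, QuotientGroup.eq_one_iff]
  have hD : commutator Q ≤ ψ.ker := by
    rw [_root_.commutator_def, Subgroup.commutator_le]
    intro a _ b _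
    rw [hψ]
    obtain ⟨m, rfl⟩ := hq
    rw [pow_mul]
    exact pow_mem (hcp a b) m
  refine hu ((hψ u).1 (hmov ψ.ker u hD fun α hα => ?_))
  rw [MonoidHom.mem_ker, map_mul, map_inv, mul_inv_eq_one]
  show (QuotientGroup.mk' M (α u)) ^ q = (QuotientGroup.mk' M u) ^ q
  rw [← map_pow, ← map_pow, ← map_pow, QuotientGroup.mk'_apply, QuotientGroup.mk'_apply,
    QuotientGroup.eq_iff_div_mem, div_eq_mul_inv]
  exact hfix α hα

/-- A nonabelian metacyclic `p`-group, `p` odd, with `x` a nontrivial commutator. -/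
theorem not_moved_of_metacyclic (hQ : IsPGroup p Q) (hp2 : p ≠ 2) (hm : Cfsg.IsMetacyclic Q)
    {x : Q} (hx1 : x ≠ 1) (hxQ : x ∈ commutator Q) : ¬ Moved x := by
  have hna : ¬ IsMulCommutative Q := fun h => by
    rw [show commutator Q = ⊥ by
      rw [_root_.commutator_def, Subgroup.commutator_eq_bot_iff_le_centralizer]
      exact fun g _ => mem_centralizer_iff.2 fun y _ => h.is_comm.comm y g, mem_bot] at hxQ
    exact hx1 hxQ
  obtain ⟨N, hN, hNc, hQc⟩ := hm
  have hDN : commutator Q ≤ N := by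
    rw [_root_.commutator_def, Subgroup.commutator_le]
    intro a _ b _
    rw [← QuotientGroup.eq_one_iff, ← QuotientGroup.mk'_apply, map_commutatorElement,
      commutatorElement_eq_one_iff_mul_comm]
    exact hQc.isMulCommutative.is_comm.comm _ _
  obtain ⟨⟨a, haN⟩, ha⟩ := hNc.exists_generator (α := N)
  have hNa : ∀ g ∈ N, g ∈ zpowers a := fun g hg => by
    obtain ⟨i, hi⟩ := mem_zpowers_iff.1 (ha ⟨g, hg⟩)
    exact ⟨i, by simpa using congrArg Subtype.val hi⟩
  -- the derived subgroup is generated by a power of `a`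
  obtain ⟨r, hr⟩ : ∃ r, commutator Q = zpowers (a ^ r) ∧ ∃ e, r = p ^ e := by
    haveI : IsCyclic (commutator Q) :=
      isCyclic_of_injective (inclusion hDN) (inclusion_injective hDN)
    obtain ⟨⟨d, hd⟩, hdg⟩ := IsCyclic.exists_generator (α := commutator Q)
    have hD : commutator Q = zpowers d := le_antisymm (fun g hg => by
      obtain ⟨i, hi⟩ := mem_zpowers_iff.1 (hdg ⟨g, hg⟩)
      exact ⟨i, by simpa using congrArg Subtype.val hi⟩) (zpowers_le.2 hd)
    obtain ⟨i, hi⟩ := (isOfFinOrder_of_finite a).mem_powers_iff_mem_zpowers.2 (hNa d (hDN hd))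
    change a ^ i = d at hi
    have hi0 : i ≠ 0 := by
      rintro rfl
      rw [pow_zero] at hi
      rw [hD, ← hi, zpowers_one_eq_bot, mem_bot] at hxQ
      exact hx1 hxQ
    obtain ⟨e, m, hm, rfl⟩ := Nat.exists_eq_pow_mul_and_not_dvd hi0 p hp.out.ne_one
    refine ⟨p ^ e, ?_, e, rfl⟩
    rw [hD]
    refine le_antisymm (zpowers_le.2 ?_) (zpowers_le.2 ?_)
    · rw [← hi, pow_mul]; exact pow_mem (mem_zpowers _) m
    · rw [← hi, pow_mul]
      obtain ⟨j, hj⟩ := hQ.exists_card_eq
      have hcop : (Nat.card Q).Coprime m := by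
        rw [hj]; exact ((Nat.Prime.coprime_iff_not_dvd hp.out).2 hm).pow_left j
      obtain ⟨t, ht⟩ := exists_pow_eq_self_of_coprime (n := m)
        (hcop.coprime_dvd_left (orderOf_dvd_natCard (a ^ p ^ e))).symm
      exact mem_zpowers_iff.2 ⟨t, by rw [zpow_natCast]; exact ht⟩
  obtain ⟨hD, e, rfl⟩ := hr
  set d := a ^ p ^ e with hd
  have he : p ∣ p ^ e := by
    refine dvd_pow_self p fun h0 => ?_
    rw [h0, pow_zero, pow_one] at hd
    subst h0
    apply hna
    have hle : N ≤ frattini Q := fun g hg => H24.commutator_le_frattini hQ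
      (hD ▸ (hd ▸ hNa g hg : g ∈ zpowers d))
    have := H24.isCyclic_of_quotient N hle
    exact IsCyclic.isMulCommutative
  -- the subgroup of `p`-th powers of the derived subgroup
  set M := zpowers (d ^ p) with hM
  have hconjD : ∀ α : MulAut Q, ∃ k : ℤ, α d = d ^ k := by
    intro α
    have h1 : α d ∈ commutator Q :=
      (Subgroup.characteristic_iff_le_comap.mp (inferInstance : (commutator Q).Characteristic) α)
        (hD ▸ mem_zpowers d)
    rw [hD] at h1
    obtain ⟨k, hk⟩ := mem_zpowers_iff.1 h1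
    exact ⟨k, hk.symm⟩
  have hMn : M.Normal := by
    refine ⟨fun y hy g => ?_⟩
    obtain ⟨i, rfl⟩ := mem_zpowers_iff.1 hy
    obtain ⟨k, hk⟩ := hconjD (MulAut.conj g)
    rw [← conj_zpow, ← conj_pow, show g * d * g⁻¹ = d ^ k from hk]
    refine mem_zpowers_iff.2 ⟨k * i, ?_⟩
    simp only [← zpow_natCast, ← zpow_mul]
    ring_nf
  have hdM : d ∉ M := by
    intro h
    obtain ⟨i, hi⟩ := mem_zpowers_iff.1 h
    obtain ⟨k, hk⟩ := hQ.exists_card_eq
    have h1 : d ^ ((p : ℤ) * i - 1) = 1 := by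
      rw [zpow_sub, zpow_mul, zpow_natCast, hi, zpow_one, mul_inv_cancel]
    have h2 : d ^ ((p : ℤ) ^ k) = 1 := by
      rw [show ((p : ℤ) ^ k) = ((p ^ k : ℕ) : ℤ) by push_cast; rfl, zpow_natCast, ← hk,
        pow_card_eq_one']
    have hcop : IsCoprime ((p : ℤ) ^ k) ((p : ℤ) * i - 1) :=
      ((Nat.prime_iff_prime_int.mp hp.out).coprime_iff_not_dvd.mpr fun h' => by
        have h3 : (p : ℤ) ∣ 1 := by simpa using dvd_sub (dvd_mul_right (p : ℤ) i) h'
        exact hp.out.one_lt.ne'
          (Nat.dvd_one.1 (Int.natCast_dvd_natCast.1 (by simpa using h3)))).pow_left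
    obtain ⟨s, t, hst⟩ := hcop
    have hd1 : d = 1 := by
      rw [← zpow_one d, ← hst, zpow_add, mul_comm s, zpow_mul, mul_comm t, zpow_mul, h1, h2,
        one_zpow, one_zpow, one_mul]
    rw [hD, hd1, zpowers_one_eq_bot, mem_bot] at hxQ
    exact hx1 hxQ
  have hcomm : ∀ g : Q, g * d * g⁻¹ * d⁻¹ ∈ M := fun g =>
    H24.comm_mem_zpowers_pow (S := (⊤ : Subgroup Q)) (hQ.to_subgroup ⊤) (mem_top d) (mem_top g) (by
      obtain ⟨k, hk⟩ := hconjD (MulAut.conj g)
      exact ⟨k, (show g * d * g⁻¹ = d ^ k from hk).symm⟩)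
  refine not_moved_of_power (q := p ^ e) (u := a) hp2 M ?_ ?_ he hdM ?_
  · intro s t g
    have hst : ⁅s, t⁆ ∈ zpowers d :=
      hD ▸ commutator_mem_commutator (mem_top s) (mem_top t)
    obtain ⟨i, hi⟩ := mem_zpowers_iff.1 hst
    rw [← QuotientGroup.eq_one_iff, ← QuotientGroup.mk'_apply, map_commutatorElement,
      commutatorElement_eq_one_iff_mul_comm, ← hi, map_zpow]
    refine (Commute.zpow_left ?_ i).eq
    have := hcomm g
    rw [← QuotientGroup.eq_one_iff, ← QuotientGroup.mk'_apply, map_mul, map_mul, map_mul,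
      map_inv, map_inv, mul_inv_eq_one, mul_inv_eq_iff_eq_mul] at this
    exact this.symm
  · intro s t
    obtain ⟨i, hi⟩ := mem_zpowers_iff.1
      (show ⁅s, t⁆ ∈ zpowers d from hD ▸ commutator_mem_commutator (mem_top s) (mem_top t))
    rw [← hi, ← zpow_natCast, ← zpow_mul, mul_comm, zpow_mul, zpow_natCast]
    exact zpow_mem (mem_zpowers _) i
  · intro α hα
    obtain ⟨k, hk⟩ := hconjD α
    rw [hD] at hxQ
    obtain ⟨j, rfl⟩ := mem_zpowers_iff.1 hxQ
    rw [map_zpow, hk, ← zpow_mul] at hα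
    rw [← hd, hk]
    have hpd : (p : ℤ) ∣ k - 1 := by
      by_contra hnd
      apply hx1
      obtain ⟨l, hl⟩ := hQ.exists_card_eq
      have h1 : (d ^ j) ^ (k - 1) = 1 := by
        rw [← zpow_mul, mul_sub, mul_one, zpow_sub, mul_comm, hα, mul_inv_cancel]
      have h2 : (d ^ j) ^ ((p : ℤ) ^ l) = 1 := by
        rw [show ((p : ℤ) ^ l) = ((p ^ l : ℕ) : ℤ) by push_cast; rfl, zpow_natCast, ← hl,
          pow_card_eq_one']
      obtain ⟨s, t, hst⟩ :=
        ((Nat.prime_iff_prime_int.mp hp.out).coprime_iff_not_dvd.mpr hnd).pow_left (m := l)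
      rw [← zpow_one (d ^ j), ← hst, zpow_add, mul_comm s, zpow_mul, mul_comm t, zpow_mul, h1, h2,
        one_zpow, one_zpow, one_mul]
    obtain ⟨c, hc⟩ := hpd
    refine ⟨c, ?_⟩
    show (d ^ p) ^ c = d ^ k * d⁻¹
    rw [← zpow_natCast d p, ← zpow_mul, ← hc, zpow_sub, zpow_one]

/-- The family `C(p, n)`, `n ≥ 4`. -/
theorem not_moved_of_CFam (hp2 : p ≠ 2) {n : ℕ} (hn : 4 ≤ n) {a b c : Q}
    (hgen : closure ({a, b, c} : Set Q) = ⊤) (hc : c ^ p ^ (n - 2) = 1) (hac : a * c = c * a)
    (hbc : b * c = c * b) (hab : a⁻¹ * b * a = b * c ^ p ^ (n - 3))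
    {x : Q} (hx1 : x ≠ 1) (hxQ : x ∈ commutator Q) :
    (∀ s t g : Q, ⁅⁅s, t⁆, g⁆ ∈ zpowers x) ∧ ¬ Moved x := by
  set w := c ^ p ^ (n - 3) with hw
  have hcc : c ∈ center Q := by
    refine mem_center_iff.2 fun g => ?_
    have hle : closure ({a, b, c} : Set Q) ≤ centralizer ({c} : Set Q) := by
      rw [closure_le]
      rintro s (rfl | rfl | rfl)
      · exact mem_centralizer_singleton_iff.mpr hac
      · exact mem_centralizer_singleton_iff.mpr hbc
      · exact mem_centralizer_singleton_iff.mpr rfl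
    exact mem_centralizer_singleton_iff.mp (hle (hgen ▸ mem_top g))
  have hwc : w ∈ center Q := pow_mem hcc _
  haveI hWn : (zpowers w).Normal := H24.normal_of_le_center (zpowers_le.2 hwc)
  have hcomm : commutator Q ≤ zpowers w := by
    refine H24.commutator_le_of_gens hgen _ ?_
    have hc1 : ∀ g : Q, Commute (c : Q ⧸ zpowers w) g := fun g =>
      (show Commute c g from (mem_center_iff.1 hcc g).symm).map (QuotientGroup.mk' (zpowers w))
    have hba : Commute (b : Q ⧸ zpowers w) a := by
      rw [commute_iff_eq, ← QuotientGroup.mk_mul, ← QuotientGroup.mk_mul, eq_comm, QuotientGroup.eq]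
      have h1 : (a * b)⁻¹ * (b * a) = w := by
        rw [mul_inv_rev, show b⁻¹ * a⁻¹ * (b * a) = b⁻¹ * (a⁻¹ * b * a) by group, hab,
          inv_mul_cancel_left]
      rw [h1]; exact mem_zpowers w
    rintro s (rfl | rfl | rfl) t (rfl | rfl | rfl)
    exacts [Commute.refl _, hba.symm, (hc1 _).symm, hba, Commute.refl _, (hc1 _).symm,
      hc1 _, hc1 _, Commute.refl _]
  have hwp : w ^ p = 1 := by rw [hw, ← pow_mul, ← pow_succ, show n - 3 + 1 = n - 2 by omega, hc]
  have hxw : zpowers x = zpowers w := by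
    have hw1 : w ≠ 1 := fun h => by
      have := hcomm hxQ
      rw [h, zpowers_one_eq_bot, mem_bot] at this
      exact hx1 this
    have hcardw : Nat.card (zpowers w) = p := by
      rw [Nat.card_zpowers]; exact orderOf_eq_prime hwp hw1
    exact H24.zpowers_eq_of_card_prime hcardw (hcomm hxQ) hx1
  refine ⟨fun s t g => ?_, ?_⟩
  · rw [hxw]
    exact hcomm (commutator_mem_commutator (mem_top _) (mem_top _))
  refine not_moved_of_power (q := p ^ (n - 3)) (u := c) hp2 (⊥ : Subgroup Q) ?_ ?_
    (dvd_pow_self p (by omega)) ?_ ?_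
  · intro s t g
    have : ⁅s, t⁆ ∈ center Q :=
      zpowers_le.2 hwc (hcomm (commutator_mem_commutator (mem_top _) (mem_top _)))
    rw [mem_bot, commutatorElement_eq_one_iff_mul_comm]
    exact (mem_center_iff.1 this g).symm
  · intro s t
    obtain ⟨i, hi⟩ := mem_zpowers_iff.1
      (hcomm (commutator_mem_commutator (mem_top s) (mem_top t)))
    rw [mem_bot, ← hi, ← zpow_natCast, ← zpow_mul, mul_comm, zpow_mul, zpow_natCast, hwp, one_zpow]
  · intro h
    rw [mem_bot] at h
    have := hcomm hxQ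
    rw [show w = 1 from h, zpowers_one_eq_bot, mem_bot] at this
    exact hx1 this
  · intro α hα
    rw [mem_bot, mul_inv_eq_one]
    obtain ⟨i, hi⟩ := mem_zpowers_iff.1 (show w ∈ zpowers x from hxw ▸ mem_zpowers w)
    show α w = w
    rw [← hi, map_zpow, hα]

/-- The family `G(p, n; s)`. -/
theorem not_moved_of_GFam {n s : ℕ} {a b c : Q} (H : H24.GFam p n s a b c)
    {x : Q} (hx1 : x ≠ 1) (hxc : x ∈ center Q) (hxQ : x ∈ commutator Q) :
    (∀ s' t g : Q, ⁅⁅s', t⁆, g⁆ ∈ zpowers x) ∧ ¬ Moved x := by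
  have hn := H.four
  set w := c ^ p ^ (n - 3) with hw
  have hwc : w ∈ center Q := zpowers_le.2 H.zp_central H.w_mem_zp
  set K := closure ({b, w} : Set Q) with hK
  have hKn : K.Normal := by
    refine ⟨fun k hk g => ?_⟩
    induction hk using closure_induction with
    | mem k hk =>
      rcases hk with rfl | rfl
      · rw [show g * k * g⁻¹ = k * H24.dOp g⁻¹ k by simp [H24.dOp, mul_assoc]]
        exact mul_mem (subset_closure (by simp))
          (zpowers_le.2 (subset_closure (by simp) : w ∈ K) (H.dOp_y_mem _))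
      · rw [mem_center_iff.1 hwc g, mul_inv_cancel_right]
        exact subset_closure (by simp)
    | one => simp
    | mul u v _ _ hu hv => rw [← conj_mul]; exact mul_mem hu hv
    | inv u _ hu => rw [← conj_inv]; exact inv_mem hu
  have hbK : b ∈ K := subset_closure (by simp)
  have hwK : w ∈ K := subset_closure (by simp)
  have hwp : w ^ p = 1 := H.pow_top
  have hcomm : commutator Q ≤ K := by
    refine H24.commutator_le_of_gens H.gen K ?_
    have hq : ∀ u v : Q, u⁻¹ * (v⁻¹ * u * v) ∈ K → Commute (u : Q ⧸ K) v := fun u v huv => by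
      rw [commute_iff_eq, ← QuotientGroup.mk_mul, ← QuotientGroup.mk_mul, eq_comm, QuotientGroup.eq]
      simpa [mul_assoc] using huv
    have h1 : Commute (b : Q ⧸ K) a := hq _ _ (by
      rw [H.conj_y, inv_mul_cancel_left, mul_comm, pow_mul]; exact pow_mem hwK _)
    have h2 : Commute (c : Q ⧸ K) a := hq _ _ (by
      rw [H.conj_z]
      exact hKn.conj_mem b hbK c⁻¹ |> fun h => by simpa [mul_assoc] using h)
    have h3 : Commute (b : Q ⧸ K) c := (show Commute b c from H.comm).map (QuotientGroup.mk' K)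
    rintro u (rfl | rfl | rfl) v (rfl | rfl | rfl)
    exacts [Commute.refl _, h1.symm, h2.symm, h1, Commute.refl _, h3, h2, h3.symm, Commute.refl _]
  -- elements of `K`
  have hKform : ∀ k ∈ K, ∃ i j : ℤ, k = b ^ i * w ^ j := by
    intro k hk
    induction hk using closure_induction with
    | mem k hk =>
      rcases hk with rfl | rfl
      · exact ⟨1, 0, by simp⟩
      · exact ⟨0, 1, by simp⟩
    | one => exact ⟨0, 0, by simp⟩
    | mul u v _ _ hu hv =>
      obtain ⟨i, j, rfl⟩ := hu
      obtain ⟨i', j', rfl⟩ := hv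
      refine ⟨i + i', j + j', ?_⟩
      have : Commute (w ^ j) (b ^ i') :=
        ((show Commute w b from (mem_center_iff.1 hwc b).symm).zpow_left j).zpow_right i'
      rw [mul_assoc, ← mul_assoc (w ^ j), this.eq, zpow_add, zpow_add]
      group
    | inv u _ hu =>
      obtain ⟨i, j, rfl⟩ := hu
      refine ⟨-i, -j, ?_⟩
      have : Commute (w ^ j) (b ^ i) :=
        ((show Commute w b from (mem_center_iff.1 hwc b).symm).zpow_left j).zpow_right i
      rw [mul_inv_rev, ← zpow_neg, ← zpow_neg]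
      exact ((this.zpow_zpow (-1) (-1)).eq.trans (by simp)) |> fun h => by simpa using h
  have hbnc : b ∉ center Q := by
    intro hb
    have h1 := H.conj_y
    rw [show a⁻¹ * b * a = b by rw [mul_assoc, ← mem_center_iff.1 hb a, inv_mul_cancel_left]] at h1
    have h2 : w ^ s = w ^ 0 := by rw [pow_zero, hw, ← pow_mul, mul_comm]; exact left_eq_mul.1 h1
    have := H.w_pow_inj h2
    rw [Nat.cast_zero] at this
    exact H.s_ne this
  have hb1 : orderOf b = p := orderOf_eq_prime H.y_pow fun h => hbnc (h ▸ one_mem _)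
  have hxw : zpowers x = zpowers w := by
    obtain ⟨i, j, hij⟩ := hKform x (hcomm hxQ)
    have hi : (p : ℤ) ∣ i := by
      by_contra hnd
      apply hbnc
      obtain ⟨s', t', hst⟩ := ((Nat.prime_iff_prime_int.mp hp.out).coprime_iff_not_dvd.mpr hnd)
      have hbi : b ^ i ∈ center Q := by
        rw [show b ^ i = x * (w ^ j)⁻¹ by rw [hij, mul_inv_cancel_right]]
        exact mul_mem hxc (inv_mem (zpow_mem hwc _))
      rw [← zpow_one b, ← hst, zpow_add, mul_comm s', zpow_mul, mul_comm t', zpow_mul,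
        zpow_natCast, H.y_pow, one_zpow, one_mul]
      exact zpow_mem hbi _
    have hbi : b ^ i = 1 := by
      rw [← orderOf_dvd_iff_zpow_eq_one, hb1]; exact hi
    rw [hbi, one_mul] at hij
    have hcardw : Nat.card (zpowers w) = p := by
      rw [Nat.card_zpowers]; exact orderOf_eq_prime hwp H.w_ne
    exact H24.zpowers_eq_of_card_prime hcardw (hij ▸ zpow_mem (mem_zpowers w) j) hx1
  refine ⟨fun s' t g => ?_, fun hmov => ?_⟩
  · rw [hxw]
    obtain ⟨i, j, hij⟩ := hKform _ (hcomm (commutator_mem_commutator (mem_top s') (mem_top t)))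
    haveI : (zpowers w).Normal := H24.normal_of_le_center (zpowers_le.2 hwc)
    rw [hij, ← QuotientGroup.eq_one_iff, ← QuotientGroup.mk'_apply, map_commutatorElement,
      commutatorElement_eq_one_iff_mul_comm, map_mul, map_zpow, map_zpow,
      show QuotientGroup.mk' (zpowers w) w = 1 from (QuotientGroup.eq_one_iff w).2 (mem_zpowers w),
      one_zpow, mul_one]
    refine (Commute.zpow_left ?_ i).eq
    rw [commute_iff_eq, ← map_mul, ← map_mul, QuotientGroup.mk'_apply, QuotientGroup.mk'_apply,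
      eq_comm, QuotientGroup.eq]
    have := H.dOp_y_mem g
    simpa [H24.dOp, mul_assoc, hw] using this
  -- the fixed coset
  set T := closure ({b, c} : Set Q) with hT
  have hbc : Commute b c := H.comm
  set D := closure ({b, c ^ p} : Set Q) with hDdef
  have hKD : K ≤ D := by
    rw [hK, closure_le]
    rintro k (rfl | rfl)
    · exact subset_closure (by simp)
    · exact zpowers_le.2 (subset_closure (by simp) : c ^ p ∈ D) H.w_mem_zp
  have hcD : c ∈ D := by
    refine hmov D c (hcomm.trans hKD) fun α hα => ?_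
    have hαb : α b ∈ K := by
      have hbQ : b ∈ commutator Q := by
        have h1 := commutator_mem_commutator (mem_top (c⁻¹)) (mem_top (a⁻¹))
        rw [show ⁅c⁻¹, a⁻¹⁆ = c⁻¹ * (a⁻¹ * c * a) by simp [commutatorElement_def, mul_assoc],
          H.conj_z, H.comm, inv_mul_cancel_left] at h1
        exact h1
      exact hcomm ((Subgroup.characteristic_iff_le_comap.mp
        (inferInstance : (commutator Q).Characteristic) α) hbQ)
    obtain ⟨i, j, hij⟩ := hKform _ hαb
    have hi : ¬ (p : ℤ) ∣ i := by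
      intro hd
      apply hbnc
      have : α b ∈ center Q := by
        rw [hij, (orderOf_dvd_iff_zpow_eq_one).1 (hb1 ▸ hd), one_mul]
        exact zpow_mem hwc _
      rw [mem_center_iff]
      intro g
      apply α.injective
      rw [map_mul, map_mul]
      exact mem_center_iff.1 this (α g)
    have hαc : α c ∈ T := by
      rw [hT, ← H.centralizer_y]
      rw [mem_centralizer_singleton_iff]
      have h1 : Commute (α c) (α b) := (hbc.symm).map α
      rw [hij] at h1
      have h2 : Commute (α c) (b ^ i) := by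
        have := h1.mul_right ((show Commute (α c) w from mem_center_iff.1 hwc (α c)).zpow_right j).inv_right
        rwa [mul_inv_cancel_right] at this
      obtain ⟨s', t', hst⟩ := ((Nat.prime_iff_prime_int.mp hp.out).coprime_iff_not_dvd.mpr hi)
      have h3 : b = (b ^ i) ^ t' := by
        conv_lhs => rw [← zpow_one b, ← hst, zpow_add, mul_comm s', zpow_mul, mul_comm t', zpow_mul,
          zpow_natCast, H.y_pow, one_zpow, one_mul]
      rw [h3]
      exact (h2.zpow_right t').eq
    obtain ⟨i', j', hij'⟩ := H.exists_form hαc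
    have hwfix : α w = w := by
      obtain ⟨l, hl⟩ := mem_zpowers_iff.1 (show w ∈ zpowers x from hxw ▸ mem_zpowers w)
      rw [← hl, map_zpow, hα]
    have hwj : w ^ j' = w ^ 1 := by
      rw [pow_one]
      conv_rhs => rw [← hwfix, hw, map_pow, hij', (hbc.pow_pow i' j').mul_pow, ← pow_mul b,
        ← pow_mul c, mul_comm i', pow_mul b, H.y_pow_top, one_pow, one_mul, mul_comm j', pow_mul c]
    have hj := H.w_pow_inj hwj
    rw [Nat.cast_one] at hj
    obtain ⟨m, hm⟩ : (p : ℤ) ∣ (j' : ℤ) - 1 := by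
      rw [← ZMod.intCast_zmod_eq_zero_iff_dvd]; push_cast; rw [hj, sub_self]
    rw [hij', mul_assoc, show (c ^ j' * c⁻¹ : Q) = (c ^ p) ^ m by
      rw [← zpow_natCast c p, ← zpow_mul, ← hm, zpow_sub, zpow_one, zpow_natCast]]
    exact mul_mem (pow_mem (subset_closure (by simp)) _) (zpow_mem (subset_closure (by simp)) _)
  -- `c` is not in `D`
  have hform : ∀ d ∈ D, d ^ p ^ (n - 3) = 1 := by
    intro d hd
    induction hd using closure_induction with
    | mem d hd =>
      rcases hd with rfl | rfl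
      · exact H.y_pow_top
      · rw [← pow_mul, ← pow_succ', show n - 3 + 1 = n - 2 by omega, H.z_pow]
    | one => exact one_pow _
    | mul u v hu hv h1 h2 =>
      have hle : D ≤ T := by
        rw [hDdef, closure_le]
        rintro k (rfl | rfl)
        · exact subset_closure (by simp)
        · exact pow_mem (subset_closure (by simp)) _
      rw [(H.commute_T (hle hu) (hle hv)).mul_pow, h1, h2, one_mul]
    | inv u _ h1 => rw [inv_pow, h1, inv_one]
  exact H.w_ne (hform c hcD)

end Cfsg.Agent.H51.IsolatedSylow
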