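import Cfsg.Agent.H51.IsolatedSylow.MaxClassEven
import Mathlib.GroupTheory.Transfer

/-!
A `3`-subgroup of index prime to three, contained in the derived subgroup, with a central element
of order three, is not of maximal class of even exponent when its rank is two.
-/

set_option autoImplicit false
set_option linter.style.haveILetI false

namespace Cfsg.Agent.H51.IsolatedSylow

open Subgroup MulAction
open scoped commutatorElement

/-- An invariant function of exponent three under a map of order three, trivial at fixed points. -/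
theorem prod_eq_one_of_three_cycle {ι A : Type*} [CommGroup A] [Fintype ι] (hA : ∀ a : A, a ^ 3 = 1)
    (σ : ι → ι) (hσ : ∀ q, σ (σ (σ q)) = q) (F : ι → A) (hF : ∀ q, F (σ q) = F q)
    (hfix : ∀ q, σ q = q → F q = 1) : ∏ q, F q = 1 := by
  classical
  suffices h : ∀ s : Finset ι, (∀ q ∈ s, σ q ∈ s) → ∏ q ∈ s, F q = 1 from
    h Finset.univ fun q _ => Finset.mem_univ _
  intro s
  induction s using Finset.strongInductionOn with
  | _ s ih =>
    intro hs
    by_cases hall : ∀ q ∈ s, F q = 1
    · exact Finset.prod_eq_one hall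
    push Not at hall
    obtain ⟨q, hq, hFq⟩ := hall
    have h1 : σ q ≠ q := fun h => hFq (hfix q h)
    have h2 : σ (σ q) ≠ q := fun h => h1 (by
      have := hσ q
      rwa [h] at this)
    have h3 : σ (σ q) ≠ σ q := fun h => h1 (by
      have := hσ q
      rw [h] at this
      exact (h ▸ this : σ q = q))
    set t : Finset ι := {q, σ q, σ (σ q)} with ht
    have hts : t ⊆ s := by
      intro r hr
      simp only [ht, Finset.mem_insert, Finset.mem_singleton] at hr
      rcases hr with rfl | rfl | rfl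
      exacts [hq, hs _ hq, hs _ (hs _ hq)]
    have hrest : ∀ r ∈ s \ t, σ r ∈ s \ t := by
      intro r hr
      rw [Finset.mem_sdiff] at hr ⊢
      refine ⟨hs r hr.1, fun hrt => hr.2 ?_⟩
      simp only [ht, Finset.mem_insert, Finset.mem_singleton] at hrt ⊢
      rcases hrt with h | h | h <;> have h' := congrArg (fun z => σ (σ z)) h <;>
        simp only [hσ] at h'
      · exact Or.inr (Or.inr h')
      · exact Or.inl h'
      · exact Or.inr (Or.inl h')
    rw [← Finset.prod_sdiff hts, ih _ (Finset.sdiff_ssubset hts ⟨q, by simp [ht]⟩) hrest, one_mul,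
      ht, Finset.prod_insert (by simp [h1.symm, h2.symm]), Finset.prod_pair h3.symm, hF, hF, hF,
      ← hA (F q), pow_three]

variable {H : Type*} [Group H]

/-- The transfer of `u` is a power when an element commuting with `u` permutes the bad orbits
freely. -/
theorem transfer_eq_pow_of_commuting (P : Subgroup H) [P.FiniteIndex] {A : Type*} [CommGroup A]
    (f : P →* A) (hA : ∀ a : A, a ^ 3 = 1) {u v : H} (hu : u ∈ P) (hv : v ^ 3 = 1)
    (hvu : Commute v u)
    (hfix : ∀ (g : H) (d : ℕ) (hy : g⁻¹ * u ^ d * g ∈ P) (i : ℤ),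
      g⁻¹ * (u ^ i * v) * g ∈ P → f ⟨g⁻¹ * u ^ d * g, hy⟩ = f ⟨u, hu⟩ ^ d) :
    f.transfer u = f ⟨u, hu⟩ ^ P.index := by
  classical
  let := P.fintypeQuotientOfFiniteIndex
  let d : H ⧸ P → ℕ := fun p => Function.minimalPeriod (u • ·) p
  let E : H ⧸ P → A := fun p =>
    f ⟨p.out⁻¹ * u ^ d p * p.out, QuotientGroup.out_conj_pow_minimalPeriod_mem P u p⟩ *
      (f ⟨u, hu⟩ ^ d p)⁻¹
  have hinv : ∀ w : H, Commute w u → ∀ p, E (w • p) = E p := by
    intro w hw p
    have hd : d (w • p) = d p := by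
      have key : ∀ k : ℕ, u ^ k • w • p = w • p ↔ u ^ k • p = p := fun k => by
        rw [← mul_smul, ← (hw.pow_right k).eq, mul_smul, smul_left_cancel_iff]
      exact Nat.dvd_antisymm
        (pow_smul_eq_iff_minimalPeriod_dvd.1 ((key _).2 (pow_smul_eq_iff_minimalPeriod_dvd.2 dvd_rfl)))
        (pow_smul_eq_iff_minimalPeriod_dvd.1 ((key _).1 (pow_smul_eq_iff_minimalPeriod_dvd.2 dvd_rfl)))
    have hr : (w * p.out)⁻¹ * (w • p).out ∈ P := by
      rw [← QuotientGroup.eq, QuotientGroup.out_eq', ← smul_eq_mul, Quotient.coe_smul_out]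
    show f _ * _ = f _ * _
    refine congrArg₂ (· * ·) ?_ (by rw [hd])
    have hy := QuotientGroup.out_conj_pow_minimalPeriod_mem P u p
    trans f ((⟨_, hr⟩ : P)⁻¹ * ⟨p.out⁻¹ * u ^ d p * p.out, hy⟩ * ⟨_, hr⟩)
    · congr 1
      apply Subtype.ext
      simp only [Subgroup.coe_mul, InvMemClass.coe_inv]
      rw [hd]
      generalize (w • p).out = s
      have : w * u ^ d p = u ^ d p * w := (hw.pow_right _).eq
      calc s⁻¹ * u ^ d p * s = s⁻¹ * (u ^ d p * w) * (w⁻¹ * s) := by group
        _ = s⁻¹ * (w * u ^ d p) * (w⁻¹ * s) := by rw [this]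
        _ = _ := by group
    · rw [map_mul, map_mul, map_inv, mul_comm, ← mul_assoc, mul_inv_cancel, one_mul]
  let Ω := orbitRel.Quotient (zpowers u) (H ⧸ P)
  letI : Fintype (Quotient (orbitRel (zpowers u) (H ⧸ P))) := Fintype.ofFinite _
  let Eb : Ω → A := Quotient.lift E (by
    rintro a b ⟨⟨w, hw⟩, rfl⟩
    obtain ⟨i, rfl⟩ := mem_zpowers_iff.1 hw
    exact hinv _ ((Commute.refl u).zpow_left i) b)
  let σ : Ω → Ω := Quotient.map' (v • ·) (by
    rintro a b ⟨⟨w, hw⟩, rfl⟩
    obtain ⟨i, rfl⟩ := mem_zpowers_iff.1 hw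
    refine ⟨⟨u ^ i, hw⟩, ?_⟩
    show u ^ i • v • b = v • u ^ i • b
    rw [← mul_smul, ← mul_smul, (hvu.zpow_right i).eq])
  have h1 : ∏ q, Eb q = 1 := by
    refine prod_eq_one_of_three_cycle hA σ ?_ Eb ?_ ?_
    · intro q
      induction q using Quotient.inductionOn' with
      | h p =>
        show Quotient.mk'' (v • v • v • p) = Quotient.mk'' p
        rw [← mul_smul, ← mul_smul, mul_assoc, ← pow_three, hv, one_smul]
    · intro q
      induction q using Quotient.inductionOn' with
      | h p => exact hinv v hvu p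
    · intro q
      induction q using Quotient.inductionOn' with
      | h p =>
        intro hq
        obtain ⟨⟨w, hw⟩, hwp⟩ := Quotient.exact' hq
        obtain ⟨i, rfl⟩ := mem_zpowers_iff.1 hw
        change u ^ i • p = v • p at hwp
        have hmem : p.out⁻¹ * (u ^ (-i) * v) * p.out ∈ P := by
          rw [mul_assoc, ← QuotientGroup.eq, QuotientGroup.out_eq', ← smul_eq_mul,
            Quotient.coe_smul_out, mul_smul, ← hwp, ← mul_smul, zpow_neg, inv_mul_cancel, one_smul]
        show f _ * _ = 1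
        rw [hfix _ _ _ _ hmem, mul_inv_cancel]
  have h2 : f.transfer u = ∏ q : Ω, Eb q * f ⟨u, hu⟩ ^ d q.out := by
    rw [MonoidHom.transfer_eq_prod_quotient_orbitRel_zpowers_quot]
    refine Fintype.prod_congr _ _ fun q => ?_
    conv_rhs => rw [show Eb q = Eb (Quotient.mk'' q.out) by rw [Quotient.out_eq']]
    show _ = f _ * _ * _
    rw [inv_mul_cancel_right]
  rw [h2, Finset.prod_mul_distrib, h1, one_mul, Finset.prod_pow_eq_pow_sum,
    index_eq_sum_minimalPeriod P u]

/-- The impossible case. -/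
theorem max_class_even_false [Finite H] (P : Subgroup H) (hP : P ≤ commutator H)
    (hidx : ¬ 3 ∣ P.index) [Group.IsNilpotent P] {n : ℕ} (hcard : Nat.card P = 3 ^ n) (hn : 4 ≤ n)
    (hev : Even n) (hcl : Group.nilpotencyClass P = n - 1) (hrk : Cfsg.PRankLE 3 2 P) {x : H}
    (hxP : x ∈ P) (hx : orderOf x = 3) (hxH : x ∈ center H) : False := by
  have hxc : (⟨x, hxP⟩ : P) ∈ center P :=
    mem_center_iff.2 fun g => Subtype.ext (mem_center_iff.1 hxH g)
  obtain ⟨C, b, u, v, hb, -, huC, huD, hu, hou, hv, hvu, hvn, hcube, hdiv, hcy⟩ :=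
    max_class_even_data hcard hn hev hcl hrk (x := ⟨x, hxP⟩) (by rw [Subgroup.orderOf_mk, hx]) hxc
  have hu' : (u : H) ^ 3 ^ b = x := by simpa using congrArg Subtype.val hu
  let f := (Abelianization.of : P →* Abelianization P)
  have hA : ∀ a : Abelianization P, a ^ 3 = 1 := by
    intro a
    induction a using QuotientGroup.induction_on with
    | H g => exact (QuotientGroup.eq_one_iff (g ^ 3)).2 (hcube g)
  have h1 : f.transfer (u : H) = f ⟨u, u.2⟩ ^ P.index := by
    refine transfer_eq_pow_of_commuting P f hA u.2 (v := (v : H))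
      (by simpa using congrArg Subtype.val hv) (congrArg Subtype.val hvu.eq) ?_
    intro g d hy i hi
    set y : P := ⟨g⁻¹ * (u : H) ^ d * g, hy⟩ with hyd
    by_cases hyC : y ∈ C
    · have h2 : y ^ 3 ^ b = (u ^ d) ^ 3 ^ b := by
        apply Subtype.ext
        push_cast
        rw [show (g⁻¹ * (u : H) ^ d * g) ^ 3 ^ b = g⁻¹ * ((u : H) ^ d) ^ 3 ^ b * g by
          simpa using conj_pow (i := 3 ^ b) (a := g⁻¹) (b := (u : H) ^ d),
          ← pow_mul, mul_comm d, pow_mul, hu', mul_assoc, show x ^ d * g = g * x ^ d from (mem_center_iff.1 (pow_mem hxH d) g).symm,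
          inv_mul_cancel_left]
      have h3 := hdiv y hyC (u ^ d) (pow_mem huC d) h2
      rw [← QuotientGroup.eq_one_iff] at h3
      change f (y * (u ^ d)⁻¹) = 1 at h3
      rw [map_mul, map_inv, mul_inv_eq_one, map_pow] at h3
      exact h3
    · exfalso
      set e : P := ⟨g⁻¹ * ((u : H) ^ i * (v : H)) * g, hi⟩ with hed
      have hcomm : Commute e y := Subtype.ext <| by
        have h4 : Commute ((u : H) ^ i * v) ((u : H) ^ d) :=
          (Commute.zpow_left (Commute.pow_self (u : H) d).symm i).mul_left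
            ((show Commute (v : H) u from congrArg Subtype.val hvu.eq).pow_right d)
        simp only [hed, hyd, Subgroup.coe_mul]
        calc g⁻¹ * ((u : H) ^ i * v) * g * (g⁻¹ * (u : H) ^ d * g)
            = g⁻¹ * (((u : H) ^ i * v) * (u : H) ^ d) * g := by group
          _ = g⁻¹ * ((u : H) ^ d * ((u : H) ^ i * v)) * g := by rw [h4.eq]
          _ = _ := by group
      obtain ⟨j, hj⟩ := hcy y hyC e hcomm
      obtain ⟨k, hk⟩ := mem_zpowers_iff.1 hj
      apply hvn
      have h5 : x ^ k = g⁻¹ * ((u : H) ^ i * v * ((u : H) ^ d) ^ j) * g := by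
        have := congrArg Subtype.val hk
        simp only [Subgroup.coe_zpow, Subgroup.coe_mul, hed, hyd] at this
        rw [this, show (g⁻¹ * (u : H) ^ d * g) ^ j = g⁻¹ * ((u : H) ^ d) ^ j * g by
          simpa using conj_zpow (i := j) (a := g⁻¹) (b := (u : H) ^ d)]
        group
      have h6 : (u : H) ^ i * v * ((u : H) ^ d) ^ j = x ^ k := by
        have hc : g * x ^ k = x ^ k * g := mem_center_iff.1 (zpow_mem hxH k) g
        calc (u : H) ^ i * v * ((u : H) ^ d) ^ j
            = g * (g⁻¹ * ((u : H) ^ i * v * ((u : H) ^ d) ^ j) * g) * g⁻¹ := by group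
          _ = _ := by rw [← h5, hc, mul_inv_cancel_right]
      refine mem_zpowers_iff.2 ⟨-i + ((3 ^ b : ℕ) : ℤ) * k + (-((d : ℤ) * j)), Subtype.ext ?_⟩
      rw [Subgroup.coe_zpow, zpow_add, zpow_add, zpow_mul, zpow_natCast, hu', ← h6,
        ← zpow_natCast (u : H) d, ← zpow_mul]
      group
  have h2 : f.transfer (u : H) = 1 := Abelianization.commutator_subset_ker _ (hP u.2)
  rw [h2] at h1
  apply huD
  refine (QuotientGroup.eq_one_iff u).1 ?_
  have h3 : orderOf (f u) ∣ 1 := by
    have h4 : orderOf (f u) ∣ P.index := orderOf_dvd_of_pow_eq_one h1.symm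
    have h5 : orderOf (f u) ∣ 3 := orderOf_dvd_of_pow_eq_one (hA _)
    exact ((Nat.prime_three.coprime_iff_not_dvd).2 hidx) ▸ Nat.dvd_gcd h5 h4
  exact orderOf_eq_one_iff.1 (Nat.dvd_one.1 h3)

end Cfsg.Agent.H51.IsolatedSylow
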